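import Cfsg.Agent.H226.R2.Base

/-!
# S4829, `p = 2`: generalized characters of norm three (helper103)

* `row2_of_norm_three` : a rational generalized character `ψ` with `[ψ, 1] = 0`, `[ψ, ψ] ≤ 3`, `ψ 1` odd and not divisible
  by three, with `stab ψ` of odd index in `Aut S`.
-/

set_option autoImplicit false

namespace Cfsg.Agent.H103.R2

open Cfsg Cfsg.Agent.Characters.Core Cfsg.Agent.Characters Cfsg.Agent.H636.Gow Cfsg.Agent.H770.CY MulAction
open Cfsg.Agent.H707.OddLift Cfsg.Agent.H226.R2 Cfsg.Agent.H707.Norm Cfsg.Agent.H707.Orbits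

universe u v

/-- an action without fixed points on a set of size three is transitive -/
theorem const_of_three {J : Type*} {α : Type*} {β : Type*} [Group J] [MulAction J α] {T : Finset α} (hT : T.card = 3)
    (hst : ∀ σ : J, ∀ x ∈ T, σ • x ∈ T) (hno : ∀ x ∈ T, ∃ σ : J, σ • x ≠ x) (f : α → β)
    (hf : ∀ (σ : J) (x : α), f (σ • x) = f x) : ∀ x ∈ T, ∀ y ∈ T, f x = f y := by
  classical
  obtain ⟨a, b, c, hab, hac, hbc, rfl⟩ := Finset.card_eq_three.1 hT
  have h1 : f b = f a ∨ f c = f a := by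
    obtain ⟨σ, hσ⟩ := hno a (by simp)
    have h := hst σ a (by simp)
    simp only [Finset.mem_insert, Finset.mem_singleton] at h
    rcases h with h | h | h
    · exact absurd h hσ
    · left; rw [← h, hf]
    · right; rw [← h, hf]
  have h2 : f a = f b ∨ f c = f b := by
    obtain ⟨σ, hσ⟩ := hno b (by simp)
    have h := hst σ b (by simp)
    simp only [Finset.mem_insert, Finset.mem_singleton] at h
    rcases h with h | h | h
    · left; rw [← h, hf]
    · exact absurd h hσ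
    · right; rw [← h, hf]
  have h3 : f a = f c ∨ f b = f c := by
    obtain ⟨σ, hσ⟩ := hno c (by simp)
    have h := hst σ c (by simp)
    simp only [Finset.mem_insert, Finset.mem_singleton] at h
    rcases h with h | h | h
    · left; rw [← h, hf]
    · right; rw [← h, hf]
    · exact absurd h hσ
  have h4 : f a = f b ∧ f a = f c := by
    rcases h1 with h1 | h1
    · exact ⟨h1.symm, h3.elim id fun h => h1.symm.trans h⟩
    · exact ⟨h2.elim id fun h => h1.symm.trans h, h1.symm⟩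
  have key : ∀ x ∈ ({a, b, c} : Finset α), f x = f a := by
    intro x hx
    simp only [Finset.mem_insert, Finset.mem_singleton] at hx
    rcases hx with rfl | rfl | rfl
    · rfl
    · exact h4.1.symm
    · exact h4.2.symm
  intro x hx y hy
  rw [key x hx, key y hy]

/-- the number of fixed points on a set of odd size at most three, if not all of its members have no fixed points -/
theorem odd_fixed {J : Type*} {α : Type*} [Group J] [MulAction J α] {T : Finset α} (hT : Odd T.card)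
    (hT3 : T.card ≤ 3) (hst : ∀ σ : J, ∀ x ∈ T, σ • x ∈ T) (R : Finset α) (hR : ∀ x, x ∈ R ↔ x ∈ T ∧ ∀ σ : J, σ • x = x)
    (hne : T.card = 3 → R.Nonempty) : Odd R.card := by
  classical
  have hRT : R ⊆ T := fun x hx => ((hR x).1 hx).1
  have hle := Finset.card_le_card hRT
  have h1 : T.card = 1 ∨ T.card = 3 := by
    obtain ⟨k, hk⟩ := hT
    omega
  rcases h1 with h1 | h1
  · obtain ⟨x, rfl⟩ := Finset.card_eq_one.1 h1
    have h2 : R = {x} := by
      ext y
      rw [hR]
      constructor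
      · exact fun h => h.1
      · intro h
        refine ⟨h, fun σ => ?_⟩
        rw [Finset.mem_singleton] at h
        subst h
        exact Finset.mem_singleton.1 (hst σ y (Finset.mem_singleton_self y))
    rw [h2, Finset.card_singleton]
    exact odd_one
  · have h2 := Finset.card_pos.2 (hne h1)
    have h3 : R.card ≠ 2 := by
      intro h3
      have h4 : (T \ R).card = 1 := by rw [Finset.card_sdiff_of_subset hRT]; omega
      obtain ⟨c, hc⟩ := Finset.card_eq_one.1 h4
      have hcm : c ∈ T \ R := by rw [hc]; exact Finset.mem_singleton_self c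
      rw [Finset.mem_sdiff] at hcm
      apply hcm.2
      rw [hR]
      refine ⟨hcm.1, fun σ => ?_⟩
      by_contra hne'
      have h5 := hst σ c hcm.1
      have h6 : σ • c ∈ R := by
        by_contra h6
        have h7 : σ • c ∈ T \ R := Finset.mem_sdiff.2 ⟨h5, h6⟩
        rw [hc, Finset.mem_singleton] at h7
        exact hne' h7
      have h7 := ((hR _).1 h6).2 σ⁻¹
      rw [inv_smul_smul] at h7
      exact hne' h7.symm
    rw [h1] at hle
    interval_cases R.card
    · exact odd_one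
    · exact absurd rfl h3
    · exact ⟨1, rfl⟩

section

variable {S : Type u} [Group S] [Fintype S]

attribute [local instance] irrAction

/-- fixed by all automorphisms of `ℂ` -/
theorem rat_of_fixed {χ : IrrCharacter S} (h : ∀ σ : ℂ ≃+* ℂ, σ • χ = χ) (g : S) : ∃ q : ℚ, (χ : S → ℂ) g = q := by
  apply GaloisBasic.exists_rat_of_forall_ringEquiv
  · exact (GaloisBasic.isIntegral_apply (isIrr_isCharacter χ.2) g).tower_top
  · intro σ
    exact congrFun (congrArg Subtype.val (h σ)) g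

/-- twisting commutes with the automorphisms of `ℂ` -/
theorem smul_tw (σ : ℂ ≃+* ℂ) (b : MulAut S) (χ : IrrCharacter S) : σ • tw b χ = tw b (σ • χ) := rfl

/-- **`ψ` of norm at most three.** -/
theorem row2_of_norm_three {ψ : S → ℂ} (hψ : IsGeneralizedCharacter S ψ) (hrat : ∀ g : S, ∃ q : ℚ, ψ g = q)
    (h1 : classInner ψ 1 = 0) {k : ℤ} (hk : Odd k) (hk3 : ¬ (3 : ℤ) ∣ k) (hk1 : ψ 1 = k) {n : ℕ}
    (hn : classInner ψ ψ = n) (hn3 : n ≤ 3) (hst : Odd (stab ψ).index) : Row2 S := by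
  classical
  intro B hB
  obtain ⟨a, ha⟩ := exists_conj_le (stab ψ) B hB hst
  have hB' : IsPGroup 2 (B.map (MulAut.conj a⁻¹).toMonoidHom) := hB.map _
  have hB'le : B.map (MulAut.conj a⁻¹).toMonoidHom ≤ stab ψ := by
    rintro _ ⟨b, hb, rfl⟩
    obtain ⟨c, hc, hcb⟩ := ha hb
    change a * c * a⁻¹ = b at hcb
    change a⁻¹ * b * (a⁻¹)⁻¹ ∈ stab ψ
    rw [← hcb]
    have : a⁻¹ * (a * c * a⁻¹) * (a⁻¹)⁻¹ = c := by group
    rw [this]
    exact hc
  obtain ⟨T, hT, hT1, hT2, hT3, hT4, hT5⟩ := exists_supp hψ h1 ⟨k, hk, hk1⟩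
  have hT3' : T.card ≤ 3 := (hT3 n hn).trans hn3
  have hfin := finite_irr (G := S)
  have hft := Fintype.ofFinite (IrrCharacter S)
  obtain ⟨m, hm⟩ := isGeneralizedCharacter_iff.1 hψ
  -- the rational members
  have hne : T.card = 3 → (T.filter fun χ => ∀ σ : ℂ ≃+* ℂ, σ • χ = χ).Nonempty := by
    intro h3
    by_contra hemp
    rw [Finset.not_nonempty_iff_eq_empty] at hemp
    have hno : ∀ χ ∈ T, ∃ σ : ℂ ≃+* ℂ, σ • χ ≠ χ := by
      intro χ hχ
      by_contra hcon
      push Not at hcon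
      have : χ ∈ T.filter fun χ => ∀ σ : ℂ ≃+* ℂ, σ • χ = χ := Finset.mem_filter.2 ⟨hχ, hcon⟩
      rw [hemp] at this
      exact absurd this (Finset.notMem_empty χ)
    have hconst := const_of_three (f := fun χ : IrrCharacter S => ((χ : S → ℂ) 1, m χ)) h3
      (fun σ χ hχ => hT5 hrat σ χ hχ) hno (fun σ χ => by
        rw [smul_apply_one, coeff_smul hm hrat])
    -- `m χ = 0` outside `T`
    have hsum := sum_sq hm hn
    have hmT : ∀ χ ∈ T, 1 ≤ m χ ^ 2 := by
      intro χ hχ
      obtain ⟨-, j, hj, hj1⟩ := (hT1 χ).1 hχ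
      rw [coeff_eq hm χ] at hj1
      have e : m χ = j := by exact_mod_cast hj1
      rw [e]
      have : j ≠ 0 := by rintro rfl; exact absurd hj (by decide)
      have := sq_pos_of_ne_zero this
      omega
    have hsT : (3 : ℤ) ≤ ∑ χ ∈ T, m χ ^ 2 := by
      have := Finset.card_nsmul_le_sum T (fun χ => m χ ^ 2) 1 hmT
      rw [h3] at this
      simpa using this
    have hsplit := Finset.sum_sdiff (f := fun χ => m χ ^ 2) (Finset.subset_univ T)
    have h0 : ∑ χ ∈ Finset.univ \ T, m χ ^ 2 ≤ 0 := by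
      have : (n : ℤ) ≤ 3 := by exact_mod_cast hn3
      linarith
    have hout : ∀ χ, χ ∉ T → m χ = 0 := by
      intro χ hχ
      have h4 : m χ ^ 2 ≤ ∑ χ ∈ Finset.univ \ T, m χ ^ 2 :=
        Finset.single_le_sum (f := fun χ => m χ ^ 2) (fun _ _ => sq_nonneg _)
          (Finset.mem_sdiff.2 ⟨Finset.mem_univ χ, hχ⟩)
      have h5 : m χ ^ 2 = 0 := le_antisymm (h4.trans h0) (sq_nonneg _)
      exact (pow_eq_zero_iff two_ne_zero).1 h5
    obtain ⟨χ₀, hχ₀⟩ := Finset.card_pos.1 (by rw [h3]; norm_num : 0 < T.card)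
    obtain ⟨d, -, hd⟩ := isIrr_apply_one χ₀.2
    have hψ1 : ψ 1 = ((3 * (m χ₀ * d) : ℤ) : ℂ) := by
      conv_lhs => rw [hm]
      rw [Finset.sum_apply, ← Finset.sum_sdiff (Finset.subset_univ T)]
      have h4 : ∑ χ ∈ Finset.univ \ T, (m χ • (χ : S → ℂ)) 1 = 0 := by
        refine Finset.sum_eq_zero fun χ hχ => ?_
        rw [hout χ (Finset.mem_sdiff.1 hχ).2, zero_smul, Pi.zero_apply]
      have h5 : ∑ χ ∈ T, (m χ • (χ : S → ℂ)) 1 = ∑ _χ ∈ T, (m χ₀ : ℂ) * d := by
        refine Finset.sum_congr rfl fun χ hχ => ?_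
        have h6 := hconst χ hχ χ₀ hχ₀
        rw [Prod.mk.injEq] at h6
        rw [Pi.smul_apply, zsmul_eq_mul, h6.1, h6.2, hd]
      rw [h4, h5, zero_add, Finset.sum_const, h3]
      push_cast
      rw [nsmul_eq_mul]
      push_cast
      ring
    rw [hk1] at hψ1
    apply hk3
    have : k = 3 * (m χ₀ * d) := by exact_mod_cast hψ1
    exact ⟨_, this⟩
  have hodd : Odd (T.filter fun χ => ∀ σ : ℂ ≃+* ℂ, σ • χ = χ).card :=
    odd_fixed (J := ℂ ≃+* ℂ) hT hT3' (fun σ χ hχ => hT5 hrat σ χ hχ) _ (fun χ => Finset.mem_filter) hne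
  let _ := twAct (S := S)
  obtain ⟨χ, hχ, hf⟩ := exists_fixed_of_odd (B := B.map (MulAut.conj a⁻¹).toMonoidHom) hB' _ hodd
    (fun b χ hχ => by
      rw [Finset.mem_filter] at hχ ⊢
      refine ⟨hT4 b.1 (hB'le b.2) χ hχ.1, fun σ => ?_⟩
      show σ • tw b.1 χ = tw b.1 χ
      rw [smul_tw, hχ.2])
  rw [Finset.mem_filter] at hχ
  obtain ⟨h2, -⟩ := (hT1 χ).1 hχ.1
  have h3 : RatInv S (B.map (MulAut.conj a⁻¹).toMonoidHom) :=
    ⟨χ, χ.2, hT2 χ hχ.1, h2, rat_of_fixed hχ.2, fun b hb => mem_stab_iff_tw.1 (hf ⟨b, hb⟩)⟩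
  have h4 := h3.conj a
  refine (h4.mono ?_).exists_irr
  intro b hb
  refine ⟨a⁻¹ * b * (a⁻¹)⁻¹, ⟨b, hb, rfl⟩, ?_⟩
  change a * (a⁻¹ * b * (a⁻¹)⁻¹) * a⁻¹ = b
  group

end

end Cfsg.Agent.H103.R2
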