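import Cfsg.Agent.H116.CY.StA
import Cfsg.Agent.H226.R2.Base

/-!
# The exact value of the Steinberg character at elliptic elements (helper103)

* `cnt_of_ell` : if no conjugate of `s` lies in a proper parabolic subgroup `P_J`, then `cnt (conj s) = (-1)^|I|`;
* `exists_st` : the Steinberg character `th` of `S`: integer valued, irreducible, `th 1 = |U|`, fixed by all automorphisms,
  `th s = (-1)^|I|` for all `s` such that no conjugate of `s` lies in a proper parabolic subgroup.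
-/

set_option autoImplicit false
set_option linter.unusedSectionVars false

namespace Cfsg.Agent.H103.R2

open Cfsg CoxeterSystem Cfsg.Agent.ChevalleyStructure.CoxeterGeom Cfsg.Agent.Tits.Roots Cfsg.Agent.Tits.Core
  Cfsg.Agent.Tits.Exchange Cfsg.Agent.Nodes.Reps Cfsg.Agent.Nodes.BNOf Cfsg.Agent.Nodes.StabComb
  Cfsg.Agent.Nodes.Bruhat Cfsg.Agent.Nodes.OppDec Cfsg.Agent.Nodes.LeviDec Cfsg.Agent.Nodes.NormalForm
  Cfsg.Agent.KFacts.RgdOpp Cfsg.Agent.KFacts.RgdAut Cfsg.Agent.KFacts.RgdDiag Cfsg.Agent.H554.RG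
  Cfsg.Agent.H116.RatB0 Cfsg.Agent.H116.TraceOrb Cfsg.Agent.H167.AltTrace Cfsg.Agent.H167.AltBldg
  Cfsg.Agent.H116.StAut Cfsg.Agent.H116.CY Cfsg.Agent.H770.CY Cfsg.Agent.H226.R2

universe u v

section Ext

variable {I W S : Type*} [Fintype I] [DecidableEq I] [Group W] [Group S] {M : CoxeterMatrix I}
  {cs : CoxeterSystem M W} {A : I → I → ℤ} {h : IsCartan M A} {r : ℕ} {T : Subgroup S} {n : I → S}
  {X : (I → ℤ) → Subgroup S}

theorem cnt_of_ell [Finite W] [Finite S] [Fact r.Prime] (R : RGD cs h r T n X) (hG : GG cs h T X = ⊤)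
    [Fintype (S ⧸ RGD.B cs h T X)] (Δ : Bldg cs (S ⧸ RGD.B cs h T X))
    (hδ : ∀ (a b k : S) (w : W), Rp cs R.nsys w k → (Δ.δ (QuotientGroup.mk a) (QuotientGroup.mk b) = w ↔
        ∃ b₁ ∈ RGD.B cs h T X, ∃ b₂ ∈ RGD.B cs h T X, a⁻¹ * b = b₁ * k * b₂)) {s : S}
    (hs : ∀ J : Finset I, J ≠ Finset.univ → ∀ x : S, x⁻¹ * s * x ∉ PJ cs h T X (J : Set I)) :
    cnt R hG Δ (MulAut.conj s) = (-1) ^ Fintype.card (Orb (typHom R hG (MulAut.conj s))) := by
  classical
  unfold cnt
  set σ := typHom R hG (MulAut.conj s) with hσ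
  have h1 : ∀ U : Finset (Orb σ), (-1 : ℤ) ^ U.card * (Nat.card {x // un σ U ⊆ (bSys Δ (QuotientGroup.mk 1)).N x ∧
      (bSys Δ (QuotientGroup.mk 1)).r (un σ U) x (act R hG (MulAut.conj s) x)} : ℤ) =
      (if U = Finset.univ then (-1) ^ Fintype.card (Orb σ) else 0) := by
    intro U
    by_cases hU : U = Finset.univ
    · rw [if_pos hU, card_fixed_univ Δ _ (by rw [hU, un_univ]) (act R hG (MulAut.conj s)), hU, Finset.card_univ]
      simp
    · rw [if_neg hU]
      have hK : un σ U ≠ Finset.univ := fun h2 => hU (un_eq_univ h2)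
      have h2 : Nat.card {x // un σ U ⊆ (bSys Δ (QuotientGroup.mk 1)).N x ∧
          (bSys Δ (QuotientGroup.mk 1)).r (un σ U) x (act R hG (MulAut.conj s) x)} = 0 := by
        rw [Nat.card_eq_zero]
        left
        constructor
        rintro ⟨x, -, hx⟩
        induction x using QuotientGroup.induction_on with
        | _ x =>
          rw [r_bSys, act_conj] at hx
          have h4 : s • (QuotientGroup.mk x : S ⧸ RGD.B cs h T X) = QuotientGroup.mk (s * x) := rfl
          rw [h4, H114.StRGD.mem_WJ_iff R Δ hδ, ← mul_assoc] at hx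
          exact hs _ hK x hx
      rw [h2, Nat.cast_zero, mul_zero]
  rw [Finset.sum_congr rfl fun U _ => h1 U, Finset.sum_ite_eq' Finset.univ Finset.univ, if_pos (Finset.mem_univ _)]

/-- **The Steinberg character.** -/
theorem exists_st [Finite W] [Fintype S] [Fact r.Prime] (R : RGD cs h r T n X) (hG : GG cs h T X = ⊤) :
    ∃ th : S → ℤ, IsIrrCharacter S (fun s => (th s : ℂ)) ∧ th 1 = Nat.card (RGD.Sup X (RGD.Pos cs h)) ∧
      (∀ (b : MulAut S) (s : S), th (b s) = th s) ∧
      ∀ s : S, (∀ J : Finset I, J ≠ Finset.univ → ∀ x : S, x⁻¹ * s * x ∉ PJ cs h T X (J : Set I)) →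
        th s = (-1) ^ Fintype.card I := by
  classical
  obtain ⟨Δ, hiso, htr, hδ⟩ := H167.SteinbergRGD.exists_bldg R (hgen_of_GG R hG)
  have hfi : Fintype (S ⧸ RGD.B cs h T X) := Fintype.ofFinite _
  have hfa : Finite (MulAut S) := inferInstance
  obtain ⟨th, h1, h2, h3, h4⟩ := exists_ext R hG Δ hiso htr hδ (A' := MulAut S) MulAut.conj (MonoidHom.id _)
    (fun s => rfl)
  refine ⟨fun s => th (MulAut.conj s), h2, ?_, ?_, ?_⟩
  · show th (MulAut.conj (1 : S)) = _
    rw [map_one, h3]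
  · intro b s
    have h5 : (MulAut.conj (b s) : MulAut S) = b * MulAut.conj s * b⁻¹ := by
      ext x
      rw [MulAut.mul_apply, MulAut.mul_apply, MulAut.conj_apply, MulAut.conj_apply, map_mul, map_mul, map_inv,
        MulAut.apply_inv_self]
    have h6 := Cfsg.Agent.Characters.Core.classFunction_apply_eq (Cfsg.Agent.Characters.Core.isIrr_isClassFunction h1)
      (isConj_iff.2 ⟨b, rfl⟩ : IsConj (MulAut.conj s) (b * MulAut.conj s * b⁻¹))
    have h7 : th (b * MulAut.conj s * b⁻¹) = th (MulAut.conj s) := by exact_mod_cast h6.symm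
    show th (MulAut.conj (b s)) = _
    rw [h5, h7]
  · intro s hs
    show th (MulAut.conj s) = _
    rw [h4]
    show ((Equiv.Perm.sign (typHom R hG (MulAut.conj s)) : ℤˣ) : ℤ) * cnt R hG Δ (MulAut.conj s) = _
    rw [cnt_of_ell R hG Δ hδ hs, sign_eq, ← pow_add, add_assoc, pow_add, ← two_mul, pow_mul (-1 : ℤ) 2]
    simp

end Ext

end Cfsg.Agent.H103.R2
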