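import Cfsg.Agent.H103.R2.StInv
import Cfsg.Agent.H148.SP.Main
import Cfsg.Agent.H48.R2.GelPhi

/-!
# The Steinberg character of `PSp_4(q)`, `q` even, at a field automorphism of order two (helper103)

`exists_st_of` : helper48's `exists_st`, from (G1), (G2); (G0) is `H48.R2.gel_phi`.
-/

set_option autoImplicit false
set_option linter.unusedSectionVars false

namespace Cfsg.Agent.H103.R2

open Cfsg Cfsg.Agent.ClassicalGeometry.SympBasic
open Cfsg.Agent.ChevalleyStructure.CoxeterGeom Cfsg.Agent.Tits.Roots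
open Cfsg.Agent.Nodes Cfsg.Agent.Nodes.TypeC Cfsg.Agent.Nodes.WittRoot Cfsg.Agent.Nodes.WittRGD Cfsg.Agent.Nodes.WittAll
  Cfsg.Agent.Nodes.WittU
open Cfsg.Agent.Nodes.Comb Cfsg.Agent.Nodes.Reps Cfsg.Agent.Nodes.BNOf Cfsg.Agent.Nodes.RGDLib Cfsg.Agent.Nodes.Bruhat
open Cfsg.Agent.Nodes.StabComb Cfsg.Agent.Nodes.LeviDec Cfsg.Agent.H116.StAut
open Cfsg.Agent.TitsThree Cfsg.Agent.TitsThree.Siegel Cfsg.Agent.TitsThree.WittFrame
  Cfsg.Agent.TitsThree.WittWeyl Cfsg.Agent.TitsThree.SpIdent Cfsg.Agent.TitsThree.FrameCN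

universe u

/-- the Coxeter system -/
noncomputable abbrev csB : CoxeterSystem (CoxeterMatrix.B 2) (CoxeterMatrix.B 2).Group :=
  (CoxeterMatrix.B 2).toCoxeterSystem

theorem exists_st_of {F : Type} [Field F] [Fintype F] [CharP F 2] (σ : F ≃+* F) (h2 : σ * σ = 1)
    (G1 : ∀ (k : Fin 2) (y t : PSp 2 F), H206.PspFix.phi 2 F σ t = t → t ≠ 1 → orderOf t ∣ Fintype.card F + 1 →
      y⁻¹ * t * H206.PspFix.phi 2 F σ y ∉
        PJ csB (isCartan 2) (WittModel.T (KInstSp.model 2 F)) (WittModel.X (KInstSp.model 2 F)) ({k}ᶜ : Set (Fin 2)))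
    (G2 : ∃ Q : Subgroup (PSp 2 F), IsPGroup 3 Q ∧ (∀ q ∈ Q, H206.PspFix.phi 2 F σ q = q) ∧
      ∀ (k : Fin 2) (y : PSp 2 F), y⁻¹ * H206.PspFix.phi 2 F σ y ∈
        PJ csB (isCartan 2) (WittModel.T (KInstSp.model 2 F)) (WittModel.X (KInstSp.model 2 F)) ({k}ᶜ : Set (Fin 2)) →
      ¬ ∀ q ∈ Q, y⁻¹ * q * y ∈
        PJ csB (isCartan 2) (WittModel.T (KInstSp.model 2 F)) (WittModel.X (KInstSp.model 2 F)) ({k}ᶜ : Set (Fin 2)))
    {A' : Type*} [Group A'] [Finite A'] (f : PSp 2 F →* A') (ψ : A' →* MulAut (PSp 2 F))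
    (hψ : ∀ s, ψ (f s) = MulAut.conj s) (x : A') (hx : ψ x = H206.PspFix.phi 2 F σ) :
    ∃ th : A' → ℤ, IsIrrCharacter A' (fun a => (th a : ℂ)) ∧ Even (th x) ∧ th x % 3 = 1 ∧
      ∀ t : PSp 2 F, H206.PspFix.phi 2 F σ t = t → t ≠ 1 → orderOf t ∣ Fintype.card F + 1 → th (x * f t) = 1 := by
  classical
  have hW : Finite (CoxeterMatrix.B 2).Group := finite_W csB
  have hS : Finite (PSp 2 F) := inferInstance
  have hφ : H206.PspFix.phi 2 F σ * H206.PspFix.phi 2 F σ = 1 := by rw [← map_mul, h2, map_one]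
  obtain ⟨th, t1, t2, t3, t4⟩ := exists_ext_inv (H148.SP.rgd (m := 2) (F := F) csB) (H148.SP.GG_eq_top (by norm_num) csB)
    f ψ hψ hφ (H48.R2.gel_phi csB σ) hx G1 G2
  refine ⟨th, t1, t2, ?_, fun t ht ht1 hto => ?_⟩
  · rw [Fintype.card_fin] at t3
    have h3 : th x % 3 = ((-1 : ℤ) ^ 2) % 3 := t3
    rw [h3]
    norm_num
  · rw [t4 t ht ht1 hto, Fintype.card_fin]
    norm_num

end Cfsg.Agent.H103.R2
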