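import Mathlib
import Cfsg.Agent.ClassicalGeometry.SympIso
import Cfsg.Agent.TitsThree.SpIdent
import Cfsg.Agent.Characters.CCBasic

/-!
# The cyclic torus of order `q² + 1` of `Sp_4(q)`, `q` even (helper103)

`L` the field of order `q⁴`, with the alternating form `tr (x y^(q²))`.

* `exists_torus` : a cyclic subgroup `A` of `Sp_4(q) = isos (form 2 K)` of order `q² + 1` which is the centralizer of each
  of its nontrivial elements (`IsCC A`), with `a ~ a^q` for all `a ∈ A`.
-/

set_option autoImplicit false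

namespace Cfsg.Agent.H103.R2

open Cfsg Cfsg.Agent.TitsThree.SpIdent Cfsg.Agent.Characters.CCBasic

universe u

section fld

variable (K : Type u) [Field K] [Finite K] [CharP K 2]

/-- the extension of degree four -/
abbrev LF := FiniteField.Extension K 2 4

/-- the automorphism `x ↦ x ^ (q ^ 2)` -/
noncomputable def sg : LF K ≃ₐ[K] LF K := FiniteField.Extension.frob K 2 4 ^ 2

variable {K}

theorem two_eq : (2 : LF K) = 0 := by
  have h : (2 : K) = 0 := CharTwo.two_eq_zero
  have h1 := congrArg (algebraMap K (LF K)) h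
  rwa [map_ofNat, map_zero] at h1

theorem pow_card_four (x : LF K) : x ^ (Nat.card K ^ 4) = x := by
  have := Fintype.ofFinite (LF K)
  rw [← FiniteField.natCard_extension K 2 4, Nat.card_eq_fintype_card]
  exact FiniteField.pow_card x

theorem sg_apply (x : LF K) : sg K x = x ^ (Nat.card K ^ 2) := FiniteField.Extension.frob_iterate_apply K 2 4 2

theorem sg_sg (x : LF K) : sg K (sg K x) = x := by
  rw [sg_apply, sg_apply, ← pow_mul, ← pow_add]
  exact pow_card_four x

/-- the alternating form `tr (x y^(q²))` -/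
noncomputable def bf (K : Type u) [Field K] [Finite K] [CharP K 2] : LinearMap.BilinForm K (LF K) :=
  (Algebra.traceForm K (LF K)).compRight (sg K).toLinearMap

theorem bf_apply (x y : LF K) : bf K x y = Algebra.trace K (LF K) (x * sg K y) := rfl

theorem bf_alt : (bf K).IsAlt := by
  intro x
  rw [bf_apply]
  apply (algebraMap K (LF K)).injective
  rw [FiniteField.algebraMap_trace_eq_sum_pow, FiniteField.finrank_extension K 2 4, map_zero]
  set z := x * sg K x with hz
  have h1 : z ^ (Nat.card K ^ 2) = z := by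
    rw [← sg_apply, hz, map_mul, sg_sg, mul_comm]
  have h2 : z ^ (Nat.card K ^ 3) = z ^ Nat.card K := by
    have : Nat.card K ^ 3 = Nat.card K ^ 2 * Nat.card K := by ring
    rw [this, pow_mul, h1]
  rw [Finset.sum_range_succ, Finset.sum_range_succ, Finset.sum_range_succ, Finset.sum_range_one, h1, h2, pow_zero,
    pow_one, pow_one]
  linear_combination (z + z ^ Nat.card K) * two_eq (K := K)

theorem bf_nd {x : LF K} (h : ∀ y, bf K x y = 0) : x = 0 := by
  refine (traceForm_nondegenerate K (LF K)).1 x fun w => ?_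
  have h1 := h (sg K w)
  rw [bf_apply, sg_sg] at h1
  exact h1

/-- coordinates -/
theorem exists_coord : ∃ e : (Fin 2 ⊕ Fin 2 → K) ≃ₗ[K] LF K, ∀ x y, bf K (e x) (e y) = sympForm 2 K x y :=
  ClassicalGeometry.SympIso.exists_linearEquiv_sympForm (bf K) bf_alt (fun _ h => bf_nd h)
    (by rw [FiniteField.finrank_extension K 2 4])

/-- an element of `L` commuting condition: `u ∉ F_{q²}` generates `L` -/
theorem commute_of {u : LF K} (hu : u ^ (Nat.card K ^ 2 + 1) = 1) (hu1 : u ≠ 1) (g : LF K →ₗ[K] LF K)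
    (hg : ∀ x, g (u * x) = u * g x) (z : LF K) : g z = g 1 * z := by
  let S : IntermediateField K (LF K) :=
    { carrier := {z | ∀ x, g (z * x) = z * g x}
      mul_mem' := by
        intro a b ha hb x
        rw [mul_assoc, ha, hb, mul_assoc]
      add_mem' := by
        intro a b ha hb x
        rw [add_mul, map_add, ha, hb, add_mul]
      algebraMap_mem' := by
        intro r x
        rw [← Algebra.smul_def, ← Algebra.smul_def, map_smul]
      inv_mem' := by
        intro a ha x
        by_cases h0 : a = 0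
        · rw [h0, inv_zero, zero_mul, zero_mul, map_zero]
        · have h1 := ha (a⁻¹ * x)
          rw [mul_inv_cancel_left₀ h0] at h1
          rw [h1, inv_mul_cancel_left₀ h0] }
  have huS : u ∈ S := hg
  have h4 : Module.finrank K (LF K) = 4 := FiniteField.finrank_extension K 2 4
  have h6 : Module.finrank K S * Module.finrank S (LF K) = 4 := by rw [Module.finrank_mul_finrank, h4]
  have hd : Module.finrank K S ∣ 4 := Dvd.intro _ h6
  have : Fintype S := Fintype.ofFinite _
  have hc : Nat.card S = Nat.card K ^ Module.finrank K S := Module.natCard_eq_pow_finrank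
  have hu0 : u ^ Nat.card S = u := by
    have h7 := FiniteField.pow_card (⟨u, huS⟩ : S)
    rw [← Nat.card_eq_fintype_card] at h7
    exact congrArg Subtype.val h7
  have hu2 : u ^ (Nat.card K ^ 2) ≠ u := by
    intro h7
    rw [pow_succ, h7] at hu
    apply hu1
    have h8 : (u - 1) ^ 2 = 0 := by linear_combination hu + (1 - u) * two_eq (K := K)
    exact sub_eq_zero.1 ((pow_eq_zero_iff two_ne_zero).1 h8)
  have htop : S = ⊤ := by
    have h5 : Module.finrank K S = 1 ∨ Module.finrank K S = 2 ∨ Module.finrank K S = 4 := by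
      have h7 := Nat.le_of_dvd (by norm_num) hd
      generalize Module.finrank K S = d at hd h7
      interval_cases d <;> simp_all
    rcases h5 with h5 | h5 | h5
    · exfalso
      rw [hc, h5, pow_one] at hu0
      apply hu2
      rw [pow_two, pow_mul, hu0, hu0]
    · exfalso
      rw [hc, h5] at hu0
      exact hu2 hu0
    · rw [← IntermediateField.finrank_eq_one_iff_eq_top]
      rw [h5] at h6
      omega
  have hz : z ∈ S := by rw [htop]; trivial
  have h5 := hz 1
  rw [mul_one] at h5
  rw [h5, mul_comm]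

/-- the elements `u` with `u ^ (q ^ 2 + 1) = 1` -/
noncomputable def Ud (K : Type u) [Field K] [Finite K] [CharP K 2] : Subgroup (LF K)ˣ :=
  (powMonoidHom (Nat.card K ^ 2 + 1) : (LF K)ˣ →* (LF K)ˣ).ker

theorem mem_Ud {u : (LF K)ˣ} : u ∈ Ud K ↔ (u : LF K) ^ (Nat.card K ^ 2 + 1) = 1 := by
  rw [Ud, MonoidHom.mem_ker, powMonoidHom_apply, Units.ext_iff, Units.val_pow_eq_pow_val, Units.val_one]

theorem card_Ud : Nat.card (Ud K) = Nat.card K ^ 2 + 1 := by
  have h1 : Nat.card (LF K)ˣ = (Nat.card K ^ 2 + 1) * (Nat.card K ^ 2 - 1) := by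
    rw [Nat.card_units, FiniteField.natCard_extension K 2 4]
    have h2 : 1 ≤ Nat.card K ^ 2 := Nat.one_le_pow _ _ Nat.card_pos
    have h3 : Nat.card K ^ 4 = Nat.card K ^ 2 * Nat.card K ^ 2 := by ring
    rw [h3]
    obtain ⟨c, hc⟩ := Nat.exists_eq_add_of_le h2
    rw [hc]
    have h4 : 1 + c - 1 = c := by omega
    have h5 : (1 + c) * (1 + c) = (1 + c + 1) * c + 1 := by ring
    rw [h4, h5, Nat.add_sub_cancel]
  rw [Ud, IsCyclic.card_powMonoidHom_ker, h1, Nat.gcd_mul_right_left]

/-- multiplication by a unit -/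
noncomputable def mu (u : (LF K)ˣ) : LF K ≃ₗ[K] LF K where
  toFun x := u * x
  invFun x := (u⁻¹ : (LF K)ˣ) * x
  map_add' _ _ := mul_add _ _ _
  map_smul' c _ := mul_smul_comm c _ _
  left_inv x := Units.inv_mul_cancel_left u x
  right_inv x := Units.mul_inv_cancel_left u x

theorem mu_apply (u : (LF K)ˣ) (x : LF K) : mu u x = u * x := rfl

theorem mu_iso {u : (LF K)ˣ} (hu : u ∈ Ud K) (x y : LF K) : bf K (mu u x) (mu u y) = bf K x y := by
  rw [bf_apply, bf_apply, mu_apply, mu_apply, map_mul (sg K), sg_apply (u : LF K)]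
  have h1 := mem_Ud.1 hu
  rw [pow_succ] at h1
  congr 1
  linear_combination (x * sg K y) * h1

/-- isometries of `bf` as elements of `Sp_4` -/
noncomputable def toIso {e : (Fin 2 ⊕ Fin 2 → K) ≃ₗ[K] LF K} (he : ∀ x y, bf K (e x) (e y) = sympForm 2 K x y)
    (g : LF K ≃ₗ[K] LF K) (hg : ∀ x y, bf K (g x) (g y) = bf K x y) : isos (form 2 K) :=
  ⟨(e.trans g).trans e.symm, by
    intro v w
    show sympForm 2 K _ _ = sympForm 2 K v w
    rw [← he, ← he]
    show bf K (e (e.symm (g (e v)))) (e (e.symm (g (e w)))) = _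
    rw [e.apply_symm_apply, e.apply_symm_apply, hg]⟩

theorem toIso_apply {e : (Fin 2 ⊕ Fin 2 → K) ≃ₗ[K] LF K} (he : ∀ x y, bf K (e x) (e y) = sympForm 2 K x y)
    (g : LF K ≃ₗ[K] LF K) (hg : ∀ x y, bf K (g x) (g y) = bf K x y) (v : Fin 2 ⊕ Fin 2 → K) :
    (toIso he g hg).1 v = e.symm (g (e v)) := rfl

/-- the torus -/
noncomputable def tor {e : (Fin 2 ⊕ Fin 2 → K) ≃ₗ[K] LF K} (he : ∀ x y, bf K (e x) (e y) = sympForm 2 K x y) :
    Ud K →* isos (form 2 K) where
  toFun u := toIso he (mu u.1) (mu_iso u.2)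
  map_one' := by
    apply Subtype.ext
    refine LinearEquiv.ext fun v => ?_
    rw [toIso_apply, mu_apply]
    show e.symm (((1 : (LF K)ˣ) : LF K) * e v) = v
    rw [Units.val_one, one_mul, e.symm_apply_apply]
  map_mul' u w := by
    apply Subtype.ext
    refine LinearEquiv.ext fun v => ?_
    show e.symm (((u.1 * w.1 : (LF K)ˣ) : LF K) * e v) = e.symm (u.1 * e (e.symm (w.1 * e v)))
    rw [e.apply_symm_apply, Units.val_mul, mul_assoc]

theorem tor_apply {e : (Fin 2 ⊕ Fin 2 → K) ≃ₗ[K] LF K} (he : ∀ x y, bf K (e x) (e y) = sympForm 2 K x y)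
    (u : Ud K) (v : Fin 2 ⊕ Fin 2 → K) : (tor he u).1 v = e.symm (((u : (LF K)ˣ) : LF K) * e v) := rfl

theorem tor_inj {e : (Fin 2 ⊕ Fin 2 → K) ≃ₗ[K] LF K} (he : ∀ x y, bf K (e x) (e y) = sympForm 2 K x y) :
    Function.Injective (tor he) := by
  intro u w h
  have h1 := congrArg (fun g : isos (form 2 K) => e (g.1 (e.symm 1))) h
  simp only [tor_apply, e.apply_symm_apply, mul_one] at h1
  exact Subtype.ext (Units.ext h1)

/-- the centralizer of a nontrivial element -/
theorem tor_cent {e : (Fin 2 ⊕ Fin 2 → K) ≃ₗ[K] LF K} (he : ∀ x y, bf K (e x) (e y) = sympForm 2 K x y)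
    {u : Ud K} (hu : u ≠ 1) {g : isos (form 2 K)} (hg : g * tor he u = tor he u * g) : g ∈ (tor he).range := by
  let g' : LF K →ₗ[K] LF K := ((e.symm.trans g.1).trans e).toLinearMap
  have hg' : ∀ x, g' x = e (g.1 (e.symm x)) := fun _ => rfl
  have h1 : ∀ x, g' (((u : (LF K)ˣ) : LF K) * x) = ((u : (LF K)ˣ) : LF K) * g' x := by
    intro x
    have h2 := congrArg (fun g : isos (form 2 K) => e (g.1 (e.symm x))) hg
    change e (g.1 ((tor he u).1 (e.symm x))) = e ((tor he u).1 (g.1 (e.symm x))) at h2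
    rw [tor_apply, tor_apply, e.apply_symm_apply, e.apply_symm_apply] at h2
    rw [hg', hg', h2]
  have hu1 : ((u : (LF K)ˣ) : LF K) ≠ 1 := fun h => hu (Subtype.ext (Units.ext h))
  have h2 := commute_of (mem_Ud.1 u.2) hu1 g' h1
  -- `g' = b *`
  set b := g' 1 with hb
  have h3 : ∀ x y, bf K (g' x) (g' y) = bf K x y := by
    intro x y
    rw [hg', hg', he]
    have h4 : sympForm 2 K (g.1 (e.symm x)) (g.1 (e.symm y)) = sympForm 2 K (e.symm x) (e.symm y) := g.2 _ _
    rw [h4, ← he, e.apply_symm_apply, e.apply_symm_apply]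
  have h4 : b * sg K b - 1 = 0 := by
    apply bf_nd
    intro y
    have h5 := h3 1 y
    rw [h2 1, h2 y, bf_apply, bf_apply, map_mul (sg K), mul_one, one_mul] at h5
    rw [bf_apply, sub_mul, map_sub, one_mul, ← h5, sub_eq_zero]
    congr 1
    ring
  have h5 : b ^ (Nat.card K ^ 2 + 1) = 1 := by
    rw [pow_succ, ← sg_apply]
    linear_combination h4
  have hb0 : b ≠ 0 := by
    intro h
    rw [h, zero_pow (by omega)] at h5
    exact zero_ne_one h5
  refine ⟨⟨Units.mk0 b hb0, mem_Ud.2 h5⟩, ?_⟩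
  apply Subtype.ext
  refine LinearEquiv.ext fun v => ?_
  rw [tor_apply]
  show e.symm (b * e v) = g.1 v
  rw [e.symm_apply_eq, ← h2, hg', e.symm_apply_apply]

theorem frob_iso (x y : LF K) : bf K (FiniteField.Extension.frob K 2 4 x) (FiniteField.Extension.frob K 2 4 y) = bf K x y := by
  rw [bf_apply, bf_apply]
  have h1 : sg K (FiniteField.Extension.frob K 2 4 y) = FiniteField.Extension.frob K 2 4 (sg K y) := by
    rw [sg_apply, sg_apply, map_pow]
  rw [h1, ← map_mul, Algebra.trace_eq_of_algEquiv]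

/-- **The torus of order `q² + 1`.** -/
theorem exists_torus : ∃ A : Subgroup (isos (form 2 K)), IsCC A ∧ IsCyclic A ∧ Nat.card A = Nat.card K ^ 2 + 1 ∧
    ∀ a ∈ A, ∃ g : isos (form 2 K), g * a * g⁻¹ = a ^ Nat.card K := by
  obtain ⟨e, he⟩ := exists_coord (K := K)
  have hcard : Nat.card (tor he).range = Nat.card K ^ 2 + 1 := by
    rw [← card_Ud]
    exact (Nat.card_congr (MonoidHom.ofInjective (tor_inj he)).toEquiv).symm
  refine ⟨(tor he).range, ⟨?_, ?_⟩, ?_, hcard, ?_⟩
  · intro h
    rw [h, Subgroup.card_bot] at hcard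
    have : 0 < Nat.card K ^ 2 := pow_pos Nat.card_pos 2
    omega
  · rintro _ ⟨u, rfl⟩ hx
    have hu : u ≠ 1 := fun h => hx (by rw [h, map_one])
    ext g
    rw [Subgroup.mem_centralizer_singleton_iff]
    constructor
    · intro hg
      exact tor_cent he hu hg
    · rintro ⟨w, rfl⟩
      rw [← map_mul, ← map_mul, mul_comm]
  · exact isCyclic_of_surjective _ (tor he).rangeRestrict_surjective
  · rintro _ ⟨u, rfl⟩
    refine ⟨toIso he (FiniteField.Extension.frob K 2 4).toLinearEquiv frob_iso, ?_⟩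
    rw [mul_inv_eq_iff_eq_mul, ← map_pow]
    apply Subtype.ext
    refine LinearEquiv.ext fun v => ?_
    show e.symm (FiniteField.Extension.frob K 2 4 (e (e.symm (((u : (LF K)ˣ) : LF K) * e v)))) =
      e.symm ((((u ^ Nat.card K : Ud K) : (LF K)ˣ) : LF K) * e (e.symm (FiniteField.Extension.frob K 2 4 (e v))))
    rw [e.apply_symm_apply, e.apply_symm_apply, map_mul, FiniteField.Extension.frob_apply, Subgroup.coe_pow,
      Units.val_pow_eq_pow_val]

end fld

end Cfsg.Agent.H103.R2
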