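import Cfsg.Agent.H103.R2.StVal

/-!
# The exact value of the Steinberg character at elliptic automorphisms (helper103)

* `cnt_of_gel` : `Gel a g σ`, no `x` with `x⁻¹ a(x) g ∈ P_K` for the `σ`-stable `K ≠ I`: `cnt a = (-1)^|Orb σ|`;
* `val_of_gel` : then the value `sign(σ) cnt a` of the Steinberg character of `exists_ext` at `a` is `(-1)^|I|`.
-/

set_option autoImplicit false
set_option linter.unusedSectionVars false

namespace Cfsg.Agent.H103.R2

open Cfsg CoxeterSystem Cfsg.Agent.ChevalleyStructure.CoxeterGeom Cfsg.Agent.Tits.Roots Cfsg.Agent.Tits.Core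
  Cfsg.Agent.Tits.Exchange Cfsg.Agent.Nodes.Reps Cfsg.Agent.Nodes.BNOf Cfsg.Agent.Nodes.StabComb
  Cfsg.Agent.Nodes.Bruhat Cfsg.Agent.Nodes.OppDec Cfsg.Agent.Nodes.LeviDec Cfsg.Agent.Nodes.NormalForm
  Cfsg.Agent.KFacts.RgdOpp Cfsg.Agent.KFacts.RgdAut Cfsg.Agent.KFacts.RgdDiag Cfsg.Agent.H554.RG
  Cfsg.Agent.H116.RatB0 Cfsg.Agent.H116.TraceOrb Cfsg.Agent.H167.AltTrace Cfsg.Agent.H167.AltBldg
  Cfsg.Agent.H116.StAut Cfsg.Agent.H116.CY Cfsg.Agent.H770.CY Cfsg.Agent.H226.R2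

variable {I W S : Type*} [Fintype I] [DecidableEq I] [Group W] [Group S] {M : CoxeterMatrix I}
  {cs : CoxeterSystem M W} {A : I → I → ℤ} {h : IsCartan M A} {r : ℕ} {T : Subgroup S} {n : I → S}
  {X : (I → ℤ) → Subgroup S}

theorem typHom_eq [Finite W] [Finite S] [Fact r.Prime] (R : RGD cs h r T n X) (hG : GG cs h T X = ⊤) {a : MulAut S}
    {g : S} {σ : Equiv.Perm I} (hg : Gel cs h T X a g σ) : typHom R hG a = σ :=
  (Gel.unique R hG (gel_spec R hG a) hg).2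

theorem cnt_of_gel [Finite W] [Finite S] [Fact r.Prime] (R : RGD cs h r T n X) (hG : GG cs h T X = ⊤)
    [Fintype (S ⧸ RGD.B cs h T X)] (Δ : Bldg cs (S ⧸ RGD.B cs h T X))
    (hδ : ∀ (a b k : S) (w : W), Rp cs R.nsys w k → (Δ.δ (QuotientGroup.mk a) (QuotientGroup.mk b) = w ↔
        ∃ b₁ ∈ RGD.B cs h T X, ∃ b₂ ∈ RGD.B cs h T X, a⁻¹ * b = b₁ * k * b₂)) {a : MulAut S} {g : S}
    {σ : Equiv.Perm I} (hg : Gel cs h T X a g σ)
    (hs : ∀ K : Finset I, K ≠ Finset.univ → K.map σ.toEmbedding = K → ∀ x : S,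
      x⁻¹ * (a x * g) ∉ PJ cs h T X (K : Set I)) :
    cnt R hG Δ a = (-1) ^ Fintype.card (Orb (typHom R hG a)) := by
  classical
  have hσ' := typHom_eq R hG hg
  unfold cnt
  set σ' := typHom R hG a with hσ
  have h1 : ∀ U : Finset (Orb σ'), (-1 : ℤ) ^ U.card * (Nat.card {x // un σ' U ⊆ (bSys Δ (QuotientGroup.mk 1)).N x ∧
      (bSys Δ (QuotientGroup.mk 1)).r (un σ' U) x (act R hG a x)} : ℤ) =
      (if U = Finset.univ then (-1) ^ Fintype.card (Orb σ') else 0) := by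
    intro U
    by_cases hU : U = Finset.univ
    · rw [if_pos hU, card_fixed_univ Δ _ (by rw [hU, un_univ]) (act R hG a), hU, Finset.card_univ]
      simp
    · rw [if_neg hU]
      have hK : un σ' U ≠ Finset.univ := fun h2 => hU (un_eq_univ h2)
      have h2 : Nat.card {x // un σ' U ⊆ (bSys Δ (QuotientGroup.mk 1)).N x ∧
          (bSys Δ (QuotientGroup.mk 1)).r (un σ' U) x (act R hG a x)} = 0 := by
        rw [Nat.card_eq_zero]
        left
        constructor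
        rintro ⟨x, -, hx⟩
        induction x using QuotientGroup.induction_on with
        | _ x =>
          rw [r_bSys, act_mk_of hg, H114.StRGD.mem_WJ_iff R Δ hδ] at hx
          refine hs _ hK ?_ x hx
          rw [← hσ', map_un]
      rw [h2, Nat.cast_zero, mul_zero]
  rw [Finset.sum_congr rfl fun U _ => h1 U, Finset.sum_ite_eq' Finset.univ Finset.univ, if_pos (Finset.mem_univ _)]

/-- **The value at an elliptic automorphism.** -/
theorem val_of_gel [Finite W] [Finite S] [Fact r.Prime] (R : RGD cs h r T n X) (hG : GG cs h T X = ⊤)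
    [Fintype (S ⧸ RGD.B cs h T X)] (Δ : Bldg cs (S ⧸ RGD.B cs h T X))
    (hδ : ∀ (a b k : S) (w : W), Rp cs R.nsys w k → (Δ.δ (QuotientGroup.mk a) (QuotientGroup.mk b) = w ↔
        ∃ b₁ ∈ RGD.B cs h T X, ∃ b₂ ∈ RGD.B cs h T X, a⁻¹ * b = b₁ * k * b₂)) {a : MulAut S} {g : S}
    {σ : Equiv.Perm I} (hg : Gel cs h T X a g σ)
    (hs : ∀ K : Finset I, K ≠ Finset.univ → K.map σ.toEmbedding = K → ∀ x : S,
      x⁻¹ * (a x * g) ∉ PJ cs h T X (K : Set I)) :
    ((Equiv.Perm.sign (typHom R hG a) : ℤˣ) : ℤ) * cnt R hG Δ a = (-1) ^ Fintype.card I := by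
  rw [cnt_of_gel R hG Δ hδ hg hs, sign_eq, ← pow_add, add_assoc, pow_add, ← two_mul, pow_mul (-1 : ℤ) 2]
  simp

end Cfsg.Agent.H103.R2
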