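import Cfsg.Agent.H103.R2.StMod
import Cfsg.Agent.SmallSimple.InvolColumn

/-!
# The Steinberg character at an involutory automorphism, characteristic two (helper103)

* `exists_ext_inv` : `φ` an involution of `Aut S` fixing the parabolic subgroups `P_J` (`Gel φ 1 1`); the integer valued
  extension `th` of the Steinberg character, `th x` even, `th x ≡ (-1)^|I|` modulo `3`, `th (x t) = (-1)^|I|` for the
  elements `t` of order dividing `N` of `C_S(φ)`, `x` inducing `φ`, from (G1) and (G2) of helper48.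
-/

set_option autoImplicit false
set_option linter.unusedSectionVars false

namespace Cfsg.Agent.H103.R2

open Cfsg CoxeterSystem Cfsg.Agent.ChevalleyStructure.CoxeterGeom Cfsg.Agent.Tits.Roots Cfsg.Agent.Tits.Core
  Cfsg.Agent.Tits.Exchange Cfsg.Agent.Nodes.Reps Cfsg.Agent.Nodes.BNOf Cfsg.Agent.Nodes.StabComb
  Cfsg.Agent.Nodes.Bruhat Cfsg.Agent.Nodes.OppDec Cfsg.Agent.Nodes.LeviDec Cfsg.Agent.Nodes.NormalForm
  Cfsg.Agent.KFacts.RgdOpp Cfsg.Agent.KFacts.RgdAut Cfsg.Agent.KFacts.RgdDiag Cfsg.Agent.H554.RG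
  Cfsg.Agent.H116.RatB0 Cfsg.Agent.H116.TraceOrb Cfsg.Agent.H167.AltTrace Cfsg.Agent.H167.AltBldg
  Cfsg.Agent.H116.StAut Cfsg.Agent.H116.CY Cfsg.Agent.H770.CY Cfsg.Agent.H226.R2

variable {I W S : Type*} [Fintype I] [DecidableEq I] [Group W] [Group S] {M : CoxeterMatrix I}
  {cs : CoxeterSystem M W} {A : I → I → ℤ} {h : IsCartan M A} {T : Subgroup S} {n : I → S}
  {X : (I → ℤ) → Subgroup S}

/-- a proper `K` lies in a maximal one -/
theorem PJ_le_max [Finite W] {r : ℕ} (R : RGD cs h r T n X) {K : Finset I} (hK : K ≠ Finset.univ) :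
    ∃ k : I, PJ cs h T X (K : Set I) ≤ PJ cs h T X ({k}ᶜ : Set I) := by
  obtain ⟨k, hk⟩ : ∃ k, k ∉ K := by
    by_contra hcon
    push Not at hcon
    exact hK (Finset.eq_univ_iff_forall.2 hcon)
  refine ⟨k, PJ_mono R fun i hi => ?_⟩
  rw [Set.mem_compl_iff, Set.mem_singleton_iff]
  rintro rfl
  exact hk hi

theorem exists_ext_inv [Finite W] [Finite S] [Nonempty I] (R : RGD cs h 2 T n X) (hG : GG cs h T X = ⊤)
    {A' : Type*} [Group A'] [Finite A'] (f : S →* A') (ψ : A' →* MulAut S) (hψ : ∀ s, ψ (f s) = MulAut.conj s)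
    {φ : MulAut S} (hφ : φ * φ = 1) (hgel : Gel cs h T X φ 1 1) {x : A'} (hx : ψ x = φ) {N : ℕ}
    (G1 : ∀ (k : I) (y t : S), φ t = t → t ≠ 1 → orderOf t ∣ N → y⁻¹ * t * φ y ∉ PJ cs h T X ({k}ᶜ : Set I))
    (G2 : ∃ Q : Subgroup S, IsPGroup 3 Q ∧ (∀ q ∈ Q, φ q = q) ∧ ∀ (k : I) (y : S),
      y⁻¹ * φ y ∈ PJ cs h T X ({k}ᶜ : Set I) → ¬ ∀ q ∈ Q, y⁻¹ * q * y ∈ PJ cs h T X ({k}ᶜ : Set I)) :
    ∃ th : A' → ℤ, IsIrrCharacter A' (fun a => (th a : ℂ)) ∧ Even (th x) ∧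
      th x ≡ (-1) ^ Fintype.card I [ZMOD 3] ∧
      ∀ t : S, φ t = t → t ≠ 1 → orderOf t ∣ N → th (x * f t) = (-1) ^ Fintype.card I := by
  classical
  have hp2 : Fact (Nat.Prime 2) := ⟨Nat.prime_two⟩
  have hp3 : Fact (Nat.Prime 3) := ⟨Nat.prime_three⟩
  obtain ⟨Δ, hiso, htr, hδ⟩ := H167.SteinbergRGD.exists_bldg R (hgen_of_GG R hG)
  have hfi : Fintype (S ⧸ RGD.B cs h T X) := Fintype.ofFinite _
  have hfa : Finite (MulAut S) := inferInstance
  obtain ⟨th, h1, -, -, h4⟩ := exists_ext R hG Δ hiso htr hδ f ψ hψ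
  obtain ⟨th', h1', -, h3', h4'⟩ := exists_ext R hG Δ hiso htr hδ (A' := MulAut S) MulAut.conj (MonoidHom.id _)
    (fun s => rfl)
  refine ⟨th, h1, ?_, ?_, ?_⟩
  · have h5 : th x = th' φ := by
      rw [h4, h4', hx]
      rfl
    obtain ⟨d, z, e1, e2, -, e3⟩ := SmallSimple.InvolColumn.exists_int_of_char
      (Cfsg.Agent.Characters.Core.isIrr_isCharacter h1') (t := φ) (by rw [pow_two, hφ])
    have e1' : th' 1 = d := by exact_mod_cast e1
    have e2' : th' φ = z := by exact_mod_cast e2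
    rw [h3'] at e1'
    have e4 : Even (Nat.card (RGD.Sup X (RGD.Pos cs h))) := by
      obtain ⟨k, hk⟩ := IsPGroup.iff_card.1 R.isPGroup_Upos
      have h6 := one_lt_card_U R
      rw [hk] at h6 ⊢
      have hk0 : k ≠ 0 := by
        rintro rfl
        simp at h6
      exact even_two.pow_of_ne_zero hk0
    have e5 : d = Nat.card (RGD.Sup X (RGD.Pos cs h)) := by exact_mod_cast e1'.symm
    rw [← e5] at e4
    rw [h5, e2', even_iff_two_dvd]
    have e6 : (2 : ℤ) ∣ (d : ℤ) := by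
      rw [even_iff_two_dvd] at e4
      exact_mod_cast e4
    have e7 := dvd_sub e6 e3
    rwa [sub_sub_cancel] at e7
  · obtain ⟨Q, hQ, hQf, hQ2⟩ := G2
    rw [h4, hx]
    refine val_modEq_of R hG Δ hiso hδ hQ hQf hgel fun K hK _ y hy hq => ?_
    obtain ⟨k, hk⟩ := PJ_le_max R hK
    rw [mul_one] at hy
    refine hQ2 k y (hk hy) fun q hq' => ?_
    rw [mul_assoc]
    exact hk (hq q hq')
  · intro t ht ht1 hto
    have h5 : ψ (x * f t) = φ * MulAut.conj t := by rw [map_mul, hx, hψ]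
    have h6 : Gel cs h T X (φ * MulAut.conj t) t 1 := by
      have h7 := hgel.mul (Gel.conj (cs := cs) (h := h) (T := T) (X := X) t)
      rwa [ht, mul_one, mul_one] at h7
    rw [h4, h5]
    refine val_of_gel R hG Δ hδ h6 fun K hK _ y hy => ?_
    obtain ⟨k, hk⟩ := PJ_le_max R hK
    refine G1 k y t ht ht1 hto ?_
    have h7 : y⁻¹ * ((φ * MulAut.conj t) y * t) = y⁻¹ * t * φ y := by
      rw [MulAut.mul_apply, MulAut.conj_apply, map_mul, map_mul, map_inv, ht]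
      group
    rw [h7] at hy
    exact hk hy

end Cfsg.Agent.H103.R2
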