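import Cfsg.Agent.H103.R2.StGen

/-!
# Congruences for the Steinberg character at automorphisms (helper103)

* `cnt_modEq_of` : `Gel a g σ`, `Q` a `p`-group fixed elementwise by `a`, and no residue `y P_K`, `K ≠ I` `σ`-stable, is
  fixed by `a` and by `Q`: `cnt a ≡ (-1)^|Orb σ|` modulo `p`;
* `val_modEq_of` : then the value at `a` of the Steinberg character is congruent to `(-1)^|I|` modulo `p`.
-/

set_option autoImplicit false
set_option linter.unusedSectionVars false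

namespace Cfsg.Agent.H103.R2

open Cfsg CoxeterSystem Cfsg.Agent.ChevalleyStructure.CoxeterGeom Cfsg.Agent.Tits.Roots Cfsg.Agent.Tits.Core
  Cfsg.Agent.Tits.Exchange Cfsg.Agent.Nodes.Reps Cfsg.Agent.Nodes.BNOf Cfsg.Agent.Nodes.StabComb
  Cfsg.Agent.Nodes.Bruhat Cfsg.Agent.Nodes.OppDec Cfsg.Agent.Nodes.LeviDec Cfsg.Agent.Nodes.NormalForm
  Cfsg.Agent.KFacts.RgdOpp Cfsg.Agent.KFacts.RgdAut Cfsg.Agent.KFacts.RgdDiag Cfsg.Agent.H554.RG
  Cfsg.Agent.H116.RatB0 Cfsg.Agent.H116.TraceOrb Cfsg.Agent.H167.AltTrace Cfsg.Agent.H167.AltBldg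
  Cfsg.Agent.H116.StAut Cfsg.Agent.H116.CY Cfsg.Agent.H770.CY Cfsg.Agent.H226.R2

variable {I W S : Type*} [Fintype I] [DecidableEq I] [Group W] [Group S] {M : CoxeterMatrix I}
  {cs : CoxeterSystem M W} {A : I → I → ℤ} {h : IsCartan M A} {r : ℕ} {T : Subgroup S} {n : I → S}
  {X : (I → ℤ) → Subgroup S}

/-- a `p`-group acting by isometries and commuting with `f` acts on the classes fixed by `f` -/
theorem dvd_card_fixed' {C : Type*} [Fintype C] (Δ : Bldg cs C) [MulAction S C]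
    (hiso : ∀ (g : S) (x y : C), Δ.δ (g • x) (g • y) = Δ.δ x y) (c : C) {K : Finset I} (f : C → C)
    (hf : ∀ x y, Δ.δ x y ∈ WJ cs (K : Set I) → Δ.δ (f x) (f y) ∈ WJ cs (K : Set I))
    {p : ℕ} [Fact p.Prime] {Q : Subgroup S} (hQ : IsPGroup p Q) (hcomm : ∀ q ∈ Q, ∀ x, f (q • x) = q • f x)
    (hno : ∀ x : C, Δ.δ x (f x) ∈ WJ cs (K : Set I) → ¬ ∀ q ∈ Q, Δ.δ x (q • x) ∈ WJ cs (K : Set I)) :
    p ∣ Nat.card {x : C // K ⊆ (bSys Δ c).N x ∧ (bSys Δ c).r K x (f x)} := by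
  classical
  have hT : K ⊆ (Finset.univ : Finset I) := Finset.subset_univ _
  set Sy := bSys Δ c with hSy
  have heq := Sy.equiv K hT
  have hr : ∀ (g : S) (x y : C), Sy.r K x y → Sy.r K (g • x) (g • y) := by
    intro g x y hxy
    rw [hSy, r_bSys] at hxy ⊢
    rwa [hiso]
  have hf' : ∀ x y, Sy.r K x y → Sy.r K (f x) (f y) := fun x y hxy => hf x y hxy
  let Xt := {x : C // K ⊆ Sy.N x ∧ Sy.r K x (f x)}
  have hmem : ∀ (q : Q) (x : Xt), K ⊆ Sy.N (Sy.gt hT ((q : S) • x.1) : C) ∧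
      Sy.r K (Sy.gt hT ((q : S) • x.1) : C) (f (Sy.gt hT ((q : S) • x.1) : C)) := by
    intro q x
    refine ⟨(Sy.gt hT _).2, ?_⟩
    have h1 := Sy.gt_rel hT ((q : S) • x.1)
    refine heq.trans (heq.symm h1) (heq.trans (hr q _ _ x.2.2) ?_)
    rw [← hcomm q q.2]
    exact hf' _ _ h1
  let act' : MulAction Q Xt :=
    { smul := fun q x => ⟨(Sy.gt hT ((q : S) • x.1) : C), hmem q x⟩
      one_smul := by
        intro x
        apply Subtype.ext
        show (Sy.gt hT (((1 : Q) : S) • x.1) : C) = x.1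
        have h1 : Sy.gt hT (((1 : Q) : S) • x.1) = (⟨x.1, x.2.1⟩ : {i // K ⊆ Sy.N i}) := by
          rw [Sy.gt_eq_iff hT, Subgroup.coe_one, one_smul]
          exact heq.refl x.1
        rw [h1]
      mul_smul := by
        intro q q' x
        apply Subtype.ext
        show (Sy.gt hT (((q * q' : Q) : S) • x.1) : C) = (Sy.gt hT ((q : S) • (Sy.gt hT ((q' : S) • x.1) : C)) : C)
        have h1 : Sy.gt hT (((q * q' : Q) : S) • x.1) = Sy.gt hT ((q : S) • (Sy.gt hT ((q' : S) • x.1) : C)) := by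
          rw [Sy.gt_eq_iff hT, Subgroup.coe_mul, mul_smul]
          exact heq.trans (hr q _ _ (Sy.gt_rel hT ((q' : S) • x.1)))
            (Sy.gt_rel hT ((q : S) • (Sy.gt hT ((q' : S) • x.1) : C)))
        rw [h1] }
  have h1 := hQ.card_modEq_card_fixedPoints Xt
  have h2 : Nat.card (MulAction.fixedPoints Q Xt) = 0 := by
    rw [Nat.card_eq_zero]
    left
    constructor
    rintro ⟨x, hx⟩
    apply hno x.1 x.2.2
    intro q hq
    have h3 : (Sy.gt hT (q • x.1) : C) = x.1 := congrArg Subtype.val (hx ⟨q, hq⟩)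
    have h4 := Sy.gt_rel hT (q • x.1)
    rw [h3] at h4
    exact heq.symm h4
  rw [h2] at h1
  exact (Nat.modEq_zero_iff_dvd).1 h1

theorem cnt_modEq_of [Finite W] [Finite S] [Fact r.Prime] (R : RGD cs h r T n X) (hG : GG cs h T X = ⊤)
    [Fintype (S ⧸ RGD.B cs h T X)] (Δ : Bldg cs (S ⧸ RGD.B cs h T X))
    (hiso : ∀ (g : S) (x y : S ⧸ RGD.B cs h T X), Δ.δ (g • x) (g • y) = Δ.δ x y)
    (hδ : ∀ (a b k : S) (w : W), Rp cs R.nsys w k → (Δ.δ (QuotientGroup.mk a) (QuotientGroup.mk b) = w ↔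
        ∃ b₁ ∈ RGD.B cs h T X, ∃ b₂ ∈ RGD.B cs h T X, a⁻¹ * b = b₁ * k * b₂))
    {p : ℕ} [hp : Fact p.Prime] {Q : Subgroup S} (hQ : IsPGroup p Q) {a : MulAut S} (ha : ∀ q ∈ Q, a q = q) {g : S}
    {σ : Equiv.Perm I} (hg : Gel cs h T X a g σ)
    (hs : ∀ K : Finset I, K ≠ Finset.univ → K.map σ.toEmbedding = K → ∀ y : S,
      y⁻¹ * (a y * g) ∈ PJ cs h T X (K : Set I) → ¬ ∀ q ∈ Q, y⁻¹ * (q * y) ∈ PJ cs h T X (K : Set I)) :
    cnt R hG Δ a ≡ (-1) ^ Fintype.card (Orb (typHom R hG a)) [ZMOD p] := by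
  classical
  have hσ' := typHom_eq R hG hg
  unfold cnt
  set σ' := typHom R hG a with hσ
  have h1 : ∀ U : Finset (Orb σ'), (-1 : ℤ) ^ U.card * (Nat.card {x // un σ' U ⊆ (bSys Δ (QuotientGroup.mk 1)).N x ∧
      (bSys Δ (QuotientGroup.mk 1)).r (un σ' U) x (act R hG a x)} : ℤ) ≡
      (if U = Finset.univ then (-1) ^ Fintype.card (Orb σ') else 0) [ZMOD p] := by
    intro U
    by_cases hU : U = Finset.univ
    · rw [if_pos hU, card_fixed_univ Δ _ (by rw [hU, un_univ]) (act R hG a), hU, Finset.card_univ]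
      simp
    · rw [if_neg hU, Int.modEq_zero_iff_dvd]
      apply Dvd.dvd.mul_left
      rw [Int.natCast_dvd_natCast]
      have hK : un σ' U ≠ Finset.univ := fun h2 => hU (un_eq_univ h2)
      have hKσ : (un σ' U).map σ.toEmbedding = un σ' U := by rw [← hσ', map_un]
      refine dvd_card_fixed' Δ hiso _ (act R hG a) ?_ hQ ?_ ?_
      · intro x y hxy
        have h2 := (rel_iff R hG Δ hδ a (un σ' U) x y).1 hxy
        rwa [← hσ, map_un] at h2
      · intro q hq x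
        induction x using QuotientGroup.induction_on with
        | _ x =>
          show act R hG a (QuotientGroup.mk (q * x)) = q • act R hG a (QuotientGroup.mk x)
          rw [act_mk, act_mk]
          show (QuotientGroup.mk (a (q * x) * gel R hG a) : S ⧸ RGD.B cs h T X) =
            QuotientGroup.mk (q * (a x * gel R hG a))
          rw [map_mul, ha q hq, mul_assoc]
      · intro x
        induction x using QuotientGroup.induction_on with
        | _ x =>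
          intro hx hx'
          rw [act_mk_of hg, H114.StRGD.mem_WJ_iff R Δ hδ] at hx
          refine hs _ hK hKσ x hx fun q hq => ?_
          have h3 := hx' q hq
          have h4 : q • (QuotientGroup.mk x : S ⧸ RGD.B cs h T X) = QuotientGroup.mk (q * x) := rfl
          rwa [h4, H114.StRGD.mem_WJ_iff R Δ hδ] at h3
  refine (sum_modEq Finset.univ fun U _ => h1 U).trans ?_
  rw [Finset.sum_ite_eq' Finset.univ Finset.univ, if_pos (Finset.mem_univ _)]

theorem val_modEq_of [Finite W] [Finite S] [Fact r.Prime] (R : RGD cs h r T n X) (hG : GG cs h T X = ⊤)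
    [Fintype (S ⧸ RGD.B cs h T X)] (Δ : Bldg cs (S ⧸ RGD.B cs h T X))
    (hiso : ∀ (g : S) (x y : S ⧸ RGD.B cs h T X), Δ.δ (g • x) (g • y) = Δ.δ x y)
    (hδ : ∀ (a b k : S) (w : W), Rp cs R.nsys w k → (Δ.δ (QuotientGroup.mk a) (QuotientGroup.mk b) = w ↔
        ∃ b₁ ∈ RGD.B cs h T X, ∃ b₂ ∈ RGD.B cs h T X, a⁻¹ * b = b₁ * k * b₂))
    {p : ℕ} [hp : Fact p.Prime] {Q : Subgroup S} (hQ : IsPGroup p Q) {a : MulAut S} (ha : ∀ q ∈ Q, a q = q) {g : S}
    {σ : Equiv.Perm I} (hg : Gel cs h T X a g σ)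
    (hs : ∀ K : Finset I, K ≠ Finset.univ → K.map σ.toEmbedding = K → ∀ y : S,
      y⁻¹ * (a y * g) ∈ PJ cs h T X (K : Set I) → ¬ ∀ q ∈ Q, y⁻¹ * (q * y) ∈ PJ cs h T X (K : Set I)) :
    ((Equiv.Perm.sign (typHom R hG a) : ℤˣ) : ℤ) * cnt R hG Δ a ≡ (-1) ^ Fintype.card I [ZMOD p] := by
  refine ((cnt_modEq_of R hG Δ hiso hδ hQ ha hg hs).mul_left _).trans ?_
  rw [sign_eq, ← pow_add, add_assoc, pow_add, ← two_mul, pow_mul (-1 : ℤ) 2]
  simp

end Cfsg.Agent.H103.R2
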